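import Mathlib

/-!
# The map `θ : W_n(B/I) → B`, `x ↦ ∑ p^i x_i^(p^(n-i))`
-/

set_option autoImplicit false
universe u

namespace Groth.Agent.Calg46.Witt

open Finset

variable {p : ℕ} [Fact p.Prime] {B : Type u} [CommRing B]

/-- Binomial terms with a divided power variable are divisible by the exponent. -/
lemma dvd_choose_mul_pow {I : Ideal B} (hI : DividedPowers I) {M k : ℕ} (hk : k ≠ 0) {a : B}
    (ha : a ∈ I) : (M : B) ∣ a ^ k * (M.choose k : B) := by
  rw [← hI.factorial_mul_dpow_eq_pow ha]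
  have h1 : M ∣ k.factorial * M.choose k := by
    rw [← Nat.descFactorial_eq_factorial_mul_choose]
    obtain ⟨j, rfl⟩ := Nat.exists_eq_succ_of_ne_zero hk
    rcases M with - | M
    · simp
    · rw [Nat.succ_descFactorial_succ]
      exact Dvd.intro _ rfl
  obtain ⟨c, hc⟩ := h1
  refine ⟨c * hI.dpow k a, ?_⟩
  have h2 : (k.factorial : B) * (M.choose k : B) = (M : B) * (c : B) := by exact_mod_cast congrArg (Nat.cast : ℕ → B) hc
  linear_combination (hI.dpow k a) * h2

/-- `(x + a)^M ≡ x^M` modulo `M` for `a` in a divided power ideal. -/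
lemma dvd_add_pow_sub_pow {I : Ideal B} (hI : DividedPowers I) (M : ℕ) (x : B) {a : B}
    (ha : a ∈ I) : (M : B) ∣ (x + a) ^ M - x ^ M := by
  rw [add_comm x a, add_pow, Finset.sum_range_succ']
  simp only [pow_zero, one_mul, Nat.choose_zero_right, Nat.cast_one, mul_one, Nat.sub_zero,
    add_sub_cancel_right]
  refine Finset.dvd_sum fun k _ => ?_
  rw [mul_right_comm]
  exact dvd_mul_of_dvd_left (dvd_choose_mul_pow hI k.succ_ne_zero ha) _

lemma ghostComponent_eq_sum {n : ℕ} (hp : (p : B) ^ n = 0) (x : WittVector p B) :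
    WittVector.ghostComponent n x =
      ∑ i : Fin n, (p : B) ^ (i : ℕ) * (x.coeff i) ^ (p ^ (n - i)) := by
  rw [WittVector.ghostComponent_apply, wittPolynomial_eq_sum_C_mul_X_pow, map_sum,
    Finset.sum_range_succ, Fin.sum_univ_eq_sum_range (fun i => (p : B) ^ i * (x.coeff i) ^ (p ^ (n - i))) n]
  simp [hp]

lemma truncate_map_surjective {C : Type u} [CommRing C] (n : ℕ) (f : B →+* C)
    (hf : Function.Surjective f) :
    Function.Surjective ((WittVector.truncate n).comp (WittVector.map (p := p) f)) :=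
  (WittVector.truncate_surjective p n C).comp (WittVector.map_surjective f hf)

theorem exists_theta (n : ℕ) (hp : (p : B) ^ n = 0) {I : Ideal B} (hI : DividedPowers I) :
    ∃ θ : TruncatedWittVector p n (B ⧸ I) →+* B, ∀ x : WittVector p B,
      θ (WittVector.truncate n (WittVector.map (Ideal.Quotient.mk I) x)) =
        ∑ i : Fin n, (p : B) ^ (i : ℕ) * (x.coeff i) ^ (p ^ (n - i)) := by
  have key : ∃ π : WittVector p B →+* TruncatedWittVector p n (B ⧸ I),
      π = (WittVector.truncate n).comp (WittVector.map (p := p) (Ideal.Quotient.mk I)) := ⟨_, rfl⟩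
  obtain ⟨π, hπd⟩ := key
  have hπ : Function.Surjective π :=
    hπd ▸ truncate_map_surjective n _ Ideal.Quotient.mk_surjective
  have hker : RingHom.ker π ≤ RingHom.ker (WittVector.ghostComponent (p := p) (R := B) n) := by
    intro x hx
    rw [hπd, RingHom.mem_ker, RingHom.comp_apply, ← RingHom.mem_ker] at hx
    rw [RingHom.mem_ker, ghostComponent_eq_sum hp]
    refine Finset.sum_eq_zero fun i _ => ?_
    have h1 := (WittVector.mem_ker_truncate n _).1 hx i i.isLt
    rw [WittVector.map_coeff, Ideal.Quotient.eq_zero_iff_mem] at h1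
    obtain ⟨c, hc⟩ := dvd_add_pow_sub_pow hI (p ^ (n - i)) 0 h1
    rw [zero_add, zero_pow (pow_ne_zero _ (Fact.out : p.Prime).ne_zero), sub_zero] at hc
    rw [hc, Nat.cast_pow, ← mul_assoc, ← pow_add, Nat.add_sub_cancel' i.isLt.le, hp, zero_mul]
  refine ⟨RingHom.liftOfSurjective π hπ ⟨WittVector.ghostComponent n, hker⟩, fun x => ?_⟩
  have hx : π x = WittVector.truncate n (WittVector.map (Ideal.Quotient.mk I) x) := by
    rw [hπd]; rfl
  rw [← ghostComponent_eq_sum hp, ← hx]
  exact RingHom.liftOfRightInverse_comp_apply π _ _ ⟨WittVector.ghostComponent n, hker⟩ x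

/-- If Frobenius is surjective modulo `p`, multiples of `p^i` are Witt sums starting at `i`. -/
lemma exists_witt_sum (n : ℕ) (hp : (p : B) ^ n = 0)
    (hF : Function.Surjective (fun y : B ⧸ (Ideal.span {(p : B)}) => y ^ p)) :
    ∀ (i : ℕ) (b : B), ∃ f : ℕ → B,
      (p : B) ^ i * b = ∑ j ∈ Finset.Ico i n, (p : B) ^ j * f j ^ (p ^ (n - j)) := by
  intro i
  induction hk : n - i generalizing i with
  | zero =>
    intro b
    refine ⟨0, ?_⟩
    rw [Finset.Ico_eq_empty (by omega), Finset.sum_empty, show i = n + (i - n) by omega, pow_add,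
      hp, zero_mul, zero_mul]
  | succ k ih =>
    intro b
    obtain ⟨x, hx⟩ : ∃ x : B, (p : B) ∣ b - x ^ (p ^ (n - i)) := by
      have key : ∀ (m : ℕ) (z : B ⧸ (Ideal.span {(p : B)})),
          ∃ y : B ⧸ (Ideal.span {(p : B)}), y ^ (p ^ m) = z := by
        intro m
        induction m with
        | zero => exact fun z => ⟨z, by simp⟩
        | succ m ihm =>
          intro z
          obtain ⟨y, hy⟩ := hF z
          obtain ⟨w, hw⟩ := ihm y
          exact ⟨w, by rw [pow_succ, pow_mul, hw]; exact hy⟩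
      obtain ⟨y, hy⟩ := key (n - i) (Ideal.Quotient.mk _ b)
      obtain ⟨x, rfl⟩ := Ideal.Quotient.mk_surjective y
      refine ⟨x, Ideal.mem_span_singleton.1 (Ideal.Quotient.eq.1 ?_)⟩
      rw [map_pow, hy]
    obtain ⟨c, hc⟩ := hx
    obtain ⟨f, hf⟩ := ih (i + 1) (by omega) c
    refine ⟨Function.update f i x, ?_⟩
    rw [Finset.sum_eq_sum_Ico_succ_bot (by omega), Function.update_self]
    have : ∑ j ∈ Finset.Ico (i + 1) n, (p : B) ^ j * Function.update f i x j ^ (p ^ (n - j)) =
        ∑ j ∈ Finset.Ico (i + 1) n, (p : B) ^ j * f j ^ (p ^ (n - j)) := by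
      refine Finset.sum_congr rfl fun j hj => ?_
      rw [Function.update_of_ne (by simp at hj; omega)]
    rw [this, ← hf]
    linear_combination ((p : B) ^ i) * hc

lemma theta_surjective (n : ℕ) (hp : (p : B) ^ n = 0)
    (hF : Function.Surjective (fun y : B ⧸ (Ideal.span {(p : B)}) => y ^ p))
    (θ : TruncatedWittVector p n (B ⧸ (Ideal.span {(p : B)})) →+* B)
    (hθ : ∀ x : WittVector p B, θ (WittVector.truncate n (WittVector.map (Ideal.Quotient.mk (Ideal.span {(p : B)})) x)) =
        ∑ i : Fin n, (p : B) ^ (i : ℕ) * (x.coeff i) ^ (p ^ (n - i))) :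
    Function.Surjective θ := by
  intro b
  obtain ⟨f, hf⟩ := exists_witt_sum n hp hF 0 b
  refine ⟨_, (hθ (WittVector.mk p f)).trans ?_⟩
  rw [pow_zero, one_mul, ← Finset.range_eq_Ico] at hf
  rw [hf, ← Fin.sum_univ_eq_sum_range (fun j => (p : B) ^ j * f j ^ (p ^ (n - j))) n]
  rfl

lemma theta_split (n : ℕ) (hn : 0 < n) (x : WittVector p B) :
    (∑ i : Fin n, (p : B) ^ (i : ℕ) * (x.coeff i) ^ (p ^ (n - i))) =
      x.coeff 0 ^ p ^ n + ∑ j ∈ Finset.Ico 1 n, (p : B) ^ j * (x.coeff j) ^ (p ^ (n - j)) := by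
  rw [Fin.sum_univ_eq_sum_range (fun j => (p : B) ^ j * (x.coeff j) ^ (p ^ (n - j))) n,
    Finset.range_eq_Ico, Finset.sum_eq_sum_Ico_succ_bot hn]
  simp

lemma coeff_zero_pow_of_mem (n : ℕ) (hn : 0 < n)
    (θ : TruncatedWittVector p n (B ⧸ (Ideal.span {(p : B)})) →+* B)
    (hθ : ∀ x : WittVector p B, θ (WittVector.truncate n (WittVector.map (Ideal.Quotient.mk (Ideal.span {(p : B)})) x)) =
        ∑ i : Fin n, (p : B) ^ (i : ℕ) * (x.coeff i) ^ (p ^ (n - i)))
    (a : TruncatedWittVector p n (B ⧸ (Ideal.span {(p : B)})))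
    (ha : a ∈ RingHom.ker θ ⊔ Ideal.span {(p : TruncatedWittVector p n (B ⧸ (Ideal.span {(p : B)})))}) :
    (TruncatedWittVector.coeff ⟨0, hn⟩ a) ^ (p ^ n) = 0 := by
  obtain ⟨b, hb, c, hc, rfl⟩ := Submodule.mem_sup.1 ha
  obtain ⟨c', rfl⟩ := Ideal.mem_span_singleton'.1 hc
  obtain ⟨v, rfl⟩ := WittVector.truncate_surjective p n _ c'
  obtain ⟨x, rfl⟩ := truncate_map_surjective (p := p) n (Ideal.Quotient.mk (Ideal.span {(p : B)}))
    Ideal.Quotient.mk_surjective b
  rw [RingHom.mem_ker, RingHom.comp_apply, hθ, theta_split n hn] at hb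
  rw [RingHom.comp_apply, ← map_natCast (WittVector.truncate (p := p) (R := B ⧸ (Ideal.span {(p : B)})) n),
    ← map_mul, ← map_add, WittVector.coeff_truncate]
  change (WittVector.constantCoeff (WittVector.map _ x + v * (p : WittVector p _))) ^ _ = 0
  have hp0 : (p : B ⧸ (Ideal.span {(p : B)})) = 0 := by
    rw [← map_natCast (Ideal.Quotient.mk (Ideal.span {(p : B)}))]
    exact Ideal.Quotient.eq_zero_iff_mem.2 (Ideal.mem_span_singleton_self _)
  rw [map_add, map_mul, map_natCast, hp0, mul_zero, add_zero]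
  change (WittVector.map (Ideal.Quotient.mk (Ideal.span {(p : B)})) x).coeff 0 ^ _ = 0
  rw [WittVector.map_coeff, ← map_pow, eq_neg_of_add_eq_zero_left hb, map_neg, map_sum,
    Finset.sum_eq_zero, neg_zero]
  intro j hj
  rw [map_mul, map_pow, map_natCast, hp0, zero_pow (by simp at hj; omega), zero_mul]

lemma mem_of_coeff_zero_pow (n : ℕ) (hn : 0 < n) (hp : (p : B) ^ n = 0)
    (hF : Function.Surjective (fun y : B ⧸ (Ideal.span {(p : B)}) => y ^ p))
    (θ : TruncatedWittVector p n (B ⧸ (Ideal.span {(p : B)})) →+* B)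
    (hθ : ∀ x : WittVector p B, θ (WittVector.truncate n (WittVector.map (Ideal.Quotient.mk (Ideal.span {(p : B)})) x)) =
        ∑ i : Fin n, (p : B) ^ (i : ℕ) * (x.coeff i) ^ (p ^ (n - i)))
    (a : TruncatedWittVector p n (B ⧸ (Ideal.span {(p : B)})))
    (ha : (TruncatedWittVector.coeff ⟨0, hn⟩ a) ^ (p ^ n) = 0) :
    a ∈ RingHom.ker θ ⊔ Ideal.span {(p : TruncatedWittVector p n (B ⧸ (Ideal.span {(p : B)})))} := by
  obtain ⟨w, rfl⟩ := truncate_map_surjective (p := p) n (Ideal.Quotient.mk (Ideal.span {(p : B)}))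
    Ideal.Quotient.mk_surjective a
  rw [RingHom.comp_apply, WittVector.coeff_truncate, WittVector.map_coeff, ← map_pow,
    Ideal.Quotient.eq_zero_iff_mem, Ideal.mem_span_singleton] at ha
  obtain ⟨c, hc⟩ := ha
  obtain ⟨f, hf⟩ := exists_witt_sum n hp hF 1 (-c)
  let x : WittVector p B := WittVector.mk p (Function.update f 0 (w.coeff 0))
  have hx0 : x.coeff 0 = w.coeff 0 := by simp [x]
  have hb : WittVector.truncate n (WittVector.map (Ideal.Quotient.mk (Ideal.span {(p : B)})) x) ∈
      RingHom.ker θ := by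
    rw [RingHom.mem_ker, hθ, theta_split n hn, hx0]
    have : ∑ j ∈ Finset.Ico 1 n, (p : B) ^ j * x.coeff j ^ (p ^ (n - j)) =
        ∑ j ∈ Finset.Ico 1 n, (p : B) ^ j * f j ^ (p ^ (n - j)) := by
      refine Finset.sum_congr rfl fun j hj => ?_
      rw [show x.coeff j = f j by simp at hj; simp [x, show j ≠ 0 by omega]]
    rw [this, ← hf]
    simp only [hc, pow_one]
    ring
  rw [← sub_add_cancel ((WittVector.truncate n).comp (WittVector.map (Ideal.Quotient.mk _)) w)
    (WittVector.truncate n (WittVector.map (Ideal.Quotient.mk (Ideal.span {(p : B)})) x))]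
  refine add_mem (le_sup_right (a := RingHom.ker θ) ?_) (le_sup_left (a := RingHom.ker θ) hb)
  rw [RingHom.comp_apply, ← map_sub, ← map_sub]
  set u := WittVector.map (Ideal.Quotient.mk (Ideal.span {(p : B)})) (w - x) with hu
  have hu0 : u.coeff 0 = 0 := by
    change WittVector.constantCoeff u = 0
    rw [hu, map_sub, map_sub]
    change (WittVector.map (Ideal.Quotient.mk (Ideal.span {(p : B)})) w).coeff 0 -
      (WittVector.map (Ideal.Quotient.mk (Ideal.span {(p : B)})) x).coeff 0 = 0
    rw [WittVector.map_coeff, WittVector.map_coeff, hx0, sub_self]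
  rcases subsingleton_or_nontrivial (B ⧸ (Ideal.span {(p : B)})) with hA | hA
  · rw [show WittVector.truncate n u = 0 from TruncatedWittVector.ext fun i => Subsingleton.elim _ _]
    exact zero_mem _
  · have hchar : CharP (B ⧸ (Ideal.span {(p : B)})) p := by
      refine CharP.quotient B p ?_
      intro hunit
      exact not_subsingleton _ (Ideal.Quotient.subsingleton_iff.2
        (Ideal.span_singleton_eq_top.2 hunit))
    obtain ⟨u', hu'⟩ : ∃ u', WittVector.verschiebung u' = u := by
      refine ⟨WittVector.mk p fun j => u.coeff (j + 1), WittVector.ext fun j => ?_⟩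
      cases j with
      | zero => rw [WittVector.verschiebung_coeff_zero, hu0]
      | succ j => rw [WittVector.verschiebung_coeff_succ]; rfl
    obtain ⟨v, rfl⟩ : ∃ v, WittVector.frobenius v = u' := by
      rw [WittVector.frobenius_eq_map_frobenius]
      exact WittVector.map_surjective _ hF u'
    rw [← hu', WittVector.verschiebung_frobenius, map_mul, map_natCast]
    exact Ideal.mul_mem_left _ _ (Ideal.mem_span_singleton_self _)

lemma natCast_pow_eq_zero (n : ℕ) (k : Type u) [CommRing k] [CharP k p] :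
    (p : TruncatedWittVector p n k) ^ n = 0 := by
  rw [← map_natCast (WittVector.truncate (p := p) (R := k) n), ← map_pow, ← RingHom.mem_ker,
    WittVector.mem_ker_truncate]
  intro i hi
  simpa using WittVector.mul_pow_charP_coeff_zero (1 : WittVector p k) hi

lemma truncate_eq_sum (k : Type u) [Field k] [CharP k p] [PerfectRing k p] (n : ℕ)
    (x : WittVector p k) (y : Fin n → WittVector p k)
    (hy : ∀ i : Fin n, ((y i).coeff 0) ^ (p ^ n) = x.coeff i) :
    WittVector.truncate n x =
      WittVector.truncate n (∑ i : Fin n, (p : WittVector p k) ^ (i : ℕ) * (y i) ^ (p ^ (n - i))) := by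
  rcases n with - | m
  · exact TruncatedWittVector.ext fun i => i.elim0
  have h1 := WittVector.dvd_sub_sum_teichmuller_iterateFrobeniusEquiv_coeff x m
  have h2 : (p : WittVector p k) ^ (m + 1) ∣
      (∑ i : Fin (m + 1), (p : WittVector p k) ^ (i : ℕ) * (y i) ^ (p ^ (m + 1 - i))) -
        ∑ i ∈ Finset.Iic m, (WittVector.teichmuller p
          (((_root_.frobeniusEquiv k p).symm ^ i) (x.coeff i)) * (p : WittVector p k) ^ i) := by
    rw [show Finset.Iic m = Finset.range (m + 1) by ext; simp [Nat.lt_succ_iff],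
      ← Fin.sum_univ_eq_sum_range (fun i => WittVector.teichmuller p
          (((_root_.frobeniusEquiv k p).symm ^ i) (x.coeff i)) * (p : WittVector p k) ^ i) (m + 1),
      ← Finset.sum_sub_distrib]
    refine Finset.dvd_sum fun i _ => ?_
    have hz : ((_root_.frobeniusEquiv k p).symm ^ (i : ℕ)) (x.coeff i) =
        (y i).coeff 0 ^ p ^ (m + 1 - i) := by
      rw [← hy i]
      have key : ∀ (j : ℕ) (z : k), ((_root_.frobeniusEquiv k p).symm ^ j) (z ^ p ^ j) = z := by
        intro j
        induction j with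
        | zero => intro z; simp
        | succ j ih =>
          intro z
          rw [pow_succ ((_root_.frobeniusEquiv k p).symm), pow_succ p, pow_mul]
          change ((_root_.frobeniusEquiv k p).symm ^ j)
            ((_root_.frobeniusEquiv k p).symm ((z ^ p ^ j) ^ p)) = z
          rw [← frobenius_def, frobeniusEquiv_symm_apply_frobenius, ih]
      rw [show p ^ (m + 1) = p ^ (m + 1 - i) * p ^ (i : ℕ) by
        rw [← pow_add, Nat.sub_add_cancel i.isLt.le], pow_mul, key]
    rw [hz, map_pow, mul_comm (WittVector.teichmuller p ((y i).coeff 0) ^ _), ← mul_sub]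
    have hd : (p : WittVector p k) ∣ y i - WittVector.teichmuller p ((y i).coeff 0) := by
      rw [← Ideal.mem_span_singleton, ← pow_one (p : WittVector p k),
        WittVector.mem_span_p_pow_iff_le_coeff_eq_zero]
      intro j hj
      obtain rfl : j = 0 := by omega
      change WittVector.constantCoeff (y i - WittVector.teichmuller p ((y i).coeff 0)) = 0
      rw [map_sub]
      change (y i).coeff 0 - (WittVector.teichmuller p ((y i).coeff 0)).coeff 0 = 0
      rw [WittVector.teichmuller_coeff_zero, sub_self]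
    obtain ⟨c, hc⟩ := dvd_sub_pow_of_dvd_sub hd (m + 1 - i)
    refine ⟨(p : WittVector p k) * c, ?_⟩
    rw [hc, ← mul_assoc, ← mul_assoc, ← pow_add, ← pow_succ]
    congr 2
    omega
  have h3 : x - ∑ i : Fin (m + 1), (p : WittVector p k) ^ (i : ℕ) * (y i) ^ (p ^ (m + 1 - i)) ∈
      RingHom.ker (WittVector.truncate (p := p) (R := k) (m + 1)) := by
    have h4 := dvd_sub h1 h2
    rw [sub_sub_sub_cancel_right, ← Ideal.mem_span_singleton,
      WittVector.mem_span_p_pow_iff_le_coeff_eq_zero] at h4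
    exact (WittVector.mem_ker_truncate _ _).2 h4
  rw [RingHom.mem_ker, map_sub, sub_eq_zero] at h3
  exact h3

end Groth.Agent.Calg46.Witt
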